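import Cfsg.Agent.Fusion.Alperin.Criteria
import Cfsg.Agent.PGroup.Critical
import Cfsg.Agent.PGroup.Commutator

/-!
Elements of order `p` (or `4`) control the automizer of a subgroup: automorphisms of a centric
radical subgroup that stabilize a series on the small elements of a strongly closed subgroup `H`
containing all commutators with `p'`-automorphisms lie in `O_p`.
-/

set_option autoImplicit false

namespace CfsgLib.Fusion.Alperin

open CfsgLib.Fus Cfsg.FusionSystem
open scoped commutatorElement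

variable {p : ℕ} [Fact p.Prime]

/-- A `p'`-automorphism fixing `x⁻¹ σ x` fixes `x`. -/
theorem eq_of_fixes_inv_mul {P : Type*} [Group P] (hP : IsPGroup p P) {σ : MulAut P}
    (hσ : (orderOf σ).Coprime p) {x : P} (h : σ (x⁻¹ * σ x) = x⁻¹ * σ x) : σ x = x := by
  set z := x⁻¹ * σ x with hz
  have hxz : σ x = x * z := by rw [hz, mul_inv_cancel_left]
  have h1 := pow_fix_mul hxz h (orderOf σ)
  rw [pow_orderOf_eq_one, MulAut.one_apply, eq_comm, mul_eq_left] at h1
  obtain ⟨k, hk⟩ := hP z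
  have h2 : orderOf z = 1 := Nat.eq_one_of_dvd_coprimes (hσ.pow_right k)
    (orderOf_dvd_of_pow_eq_one h1) (orderOf_dvd_of_pow_eq_one hk)
  rw [orderOf_eq_one_iff] at h2
  rw [hxz, h2, mul_one]

/-- In class two with central `p`-th powers, a `p'`-automorphism fixing every element killed by `q`
(`q = p` odd, or `q = 4`) is trivial. -/
theorem eq_one_of_fixes_small {P : Type*} [Group P] [Finite P] (hP : IsPGroup p P)
    (hcl : ∀ a b : P, ⁅a, b⁆ ∈ Subgroup.center P) (hpow : ∀ a : P, a ^ p ∈ Subgroup.center P)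
    {q : ℕ} (hq : (p ≠ 2 ∧ q = p) ∨ (p = 2 ∧ q = 4)) {σ : MulAut P} (hσ : (orderOf σ).Coprime p)
    (hfix : ∀ x : P, x ^ q = 1 → σ x = x) : σ = 1 := by
  suffices ∀ n : ℕ, ∀ x : P, orderOf x = n → σ x = x from MulEquiv.ext fun x => this _ x rfl
  intro n
  induction n using Nat.strong_induction_on with
  | _ n ih =>
    intro x hx
    by_cases hxp : orderOf x ∣ p
    · refine hfix x (orderOf_dvd_iff_pow_eq_one.1 ?_)
      rcases hq with ⟨-, rfl⟩ | ⟨hp2, rfl⟩
      · exact hxp
      · exact hxp.trans (by rw [hp2]; norm_num)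
    obtain ⟨k, hk⟩ := (IsPGroup.iff_orderOf.1 hP) x
    have hk1 : 1 ≤ k := by
      refine Nat.one_le_iff_ne_zero.2 fun h0 => hxp ?_
      rw [hk, h0, pow_zero]
      exact one_dvd p
    have hlt : orderOf (x ^ p) < n := by
      rw [orderOf_pow_of_dvd (Fact.out : p.Prime).ne_zero (hk ▸ dvd_pow_self p (by omega)), hx]
      exact Nat.div_lt_self (hx ▸ orderOf_pos x) (Fact.out : p.Prime).one_lt
    have hpx : σ (x ^ p) = x ^ p := ih _ hlt _ rfl
    set u := x⁻¹ * σ x with hu
    have hxu : σ x = x * u := by rw [hu, mul_inv_cancel_left]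
    set c := ⁅x, u⁆ with hc
    have hcp : c ^ p = 1 := by
      rw [hc, ← PGroup.commutatorElement_pow_left' hcl,
        commutatorElement_eq_one_iff_mul_comm]
      exact (Subgroup.mem_center_iff.1 (hpow x) u).symm
    have hid := PGroup.mul_pow_mul_commutatorElement (PGroup.commute_commutatorElement hcl x u x)
      (PGroup.commute_commutatorElement hcl x u u) p
    rw [← hxu, ← map_pow, hpx, mul_right_inj, ← hc] at hid
    refine eq_of_fixes_inv_mul hP hσ (hfix u ?_)
    rcases hq with ⟨hp2, hqp⟩ | ⟨hp2, hq4⟩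
    · obtain ⟨m, hm⟩ := PGroup.dvd_choose_two_of_odd ((Fact.out : p.Prime).odd_of_ne_two hp2)
      rw [hm, pow_mul, hcp, one_pow] at hid
      rw [hqp]
      exact hid.symm
    · rw [hq4]
      subst hp2
      rw [Nat.choose_self, pow_one] at hid
      rw [show (4 : ℕ) = 2 * 2 from rfl, pow_mul, ← hid, hcp]

variable {Ω : Type*} [Group Ω] {S : Subgroup Ω} [Finite S]

/-- Automorphisms stabilizing a series on the small elements of `R ⊓ H` lie in `O_p(Aut_F(R))`, for
`H` strongly closed and containing `x⁻¹ a x` for all `p'`-automorphisms `a`. -/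
theorem mem_pCore_of_small (hS : IsPGroup p S) {F : Cfsg.FusionSystem S} {R : Subgroup Ω}
    (hR : R ≤ S) {H : Subgroup Ω} (hH : F.StronglyClosed H)
    (hgen : ∀ a ∈ F.autGroup R, (orderOf a).Coprime p → ∀ x : R, (x : Ω)⁻¹ * ((a x : R) : Ω) ∈ H)
    {q : ℕ} (hq : (p ≠ 2 ∧ q = p) ∨ (p = 2 ∧ q = 4))
    (n : ℕ) (L : ℕ → Subgroup Ω) (hL0 : L 0 = ⊥) (hLn : H ≤ L n)
    (hinv : ∀ i, ∀ a ∈ F.autGroup R, ∀ x : R, (x : Ω) ∈ H → (x : Ω) ^ q = 1 → (x : Ω) ∈ L i →
      ((a x : R) : Ω) ∈ L i)
    {t : F.autGroup R} (ht : ∀ i < n, ∀ x : R, (x : Ω) ∈ H → (x : Ω) ^ q = 1 → (x : Ω) ∈ L (i + 1) →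
      (x : Ω)⁻¹ * (((t : MulAut R) x : R) : Ω) ∈ L i) :
    t ∈ Cfsg.pCore p (F.autGroup R) := by
  have := finite_of_le hR
  have := finite_mulAut R
  set D := R ⊓ H with hD
  have hDR : D ≤ R := inf_le_left
  have hDS : D ≤ S := inf_le_left.trans hR
  have := finite_of_le hDS
  have hDP : IsPGroup p D := hS.to_le hDS
  have hpres : ∀ a : F.autGroup R, ∀ x : D,
      (((a : MulAut R) (Subgroup.inclusion hDR x) : R) : Ω) ∈ D := fun a x =>
    ⟨((a : MulAut R) _).2, map_mem_of_stronglyClosed hH ((mem_autGroup_iff F hR).1 a.2) x.2.2⟩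
  let res : F.autGroup R →* MulAut D :=
    { toFun := fun a =>
        { toFun := fun x => ⟨_, hpres a x⟩
          invFun := fun x => ⟨_, hpres a⁻¹ x⟩
          left_inv := fun x => Subtype.ext (congrArg Subtype.val
            ((a : MulAut R).symm_apply_apply (Subgroup.inclusion hDR x)) :)
          right_inv := fun x => Subtype.ext (congrArg Subtype.val
            ((a : MulAut R).apply_symm_apply (Subgroup.inclusion hDR x)) :)
          map_mul' := fun x y => Subtype.ext (congrArg Subtype.val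
            (map_mul (a : MulAut R) (Subgroup.inclusion hDR x) (Subgroup.inclusion hDR y)) :) }
      map_one' := MulEquiv.ext fun x => rfl
      map_mul' := fun a b => MulEquiv.ext fun x => rfl }
  have res_apply : ∀ (a : F.autGroup R) (x : D),
      ((res a x : D) : Ω) = (((a : MulAut R) (Subgroup.inclusion hDR x) : R) : Ω) := fun _ _ => rfl
  obtain ⟨C, hC⟩ := PGroup.exists_criticalSubgroup (p := p) hDP
  have hCa : ∀ (a : F.autGroup R) (d : D), d ∈ C → res a d ∈ C := fun a d hd =>
    (Subgroup.characteristic_iff_map_eq.1 hC.characteristic (res a)).le ⟨d, hd, rfl⟩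
  -- the small elements of the critical subgroup form a subgroup
  have hWmul : ∀ a ∈ C, ∀ b ∈ C, a ^ q = 1 → b ^ q = 1 → (a * b) ^ q = 1 := by
    intro a ha b hb ha1 hb1
    set a' : C := ⟨a, ha⟩
    set b' : C := ⟨b, hb⟩
    have hcl := hC.class_two
    have hcp : ⁅a', b'⁆ ^ p = 1 := by
      rw [← PGroup.commutatorElement_pow_left' hcl, commutatorElement_eq_one_iff_mul_comm]
      exact (Subgroup.mem_center_iff.1 (hC.pow_mem_center a') b').symm
    have hid := PGroup.mul_pow_mul_commutatorElement (PGroup.commute_commutatorElement hcl a' b' a')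
      (PGroup.commute_commutatorElement hcl a' b' b') q
    have ha' : a' ^ q = 1 := Subtype.ext ha1
    have hb' : b' ^ q = 1 := Subtype.ext hb1
    have hchoose : ⁅a', b'⁆ ^ q.choose 2 = 1 := by
      rcases hq with ⟨hp2, hqp⟩ | ⟨hp2, hq4⟩
      · obtain ⟨m, hm⟩ := PGroup.dvd_choose_two_of_odd ((Fact.out : p.Prime).odd_of_ne_two hp2)
        rw [hqp, hm, pow_mul, hcp, one_pow]
      · rw [hq4, show Nat.choose 4 2 = p * 3 by rw [hp2]; rfl, pow_mul, hcp, one_pow]
    rw [hchoose, ha', hb', mul_one, mul_one] at hid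
    exact congrArg Subtype.val hid
  have hsmallinv : ∀ i, ∀ a : F.autGroup R, ∀ d ∈ C, d ^ q = 1 → (d : Ω) ∈ L i →
      ((res a d : D) : Ω) ∈ L i := fun i a d _ hd hdL =>
    hinv i a a.2 (Subgroup.inclusion hDR d) d.2.2 (congrArg Subtype.val hd) hdL
  have hWaut : ∀ a : F.autGroup R, ∀ d ∈ C, d ^ q = 1 →
      d⁻¹ * res a d ∈ C ∧ (d⁻¹ * res a d) ^ q = 1 := by
    intro a d hd hd1
    refine ⟨C.mul_mem (C.inv_mem hd) (hCa a d hd), hWmul _ (C.inv_mem hd) _ (hCa a d hd) ?_ ?_⟩
    · rw [inv_pow, hd1, inv_one]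
    · rw [← map_pow, hd1, map_one]
  let K : Subgroup (F.autGroup R) :=
    { carrier := {a | ∀ i < n, ∀ d ∈ C, d ^ q = 1 → (d : Ω) ∈ L (i + 1) →
        ((d⁻¹ * res a d : D) : Ω) ∈ L i}
      one_mem' := fun i _ d _ _ _ => by simp
      mul_mem' := fun {a b} ha hb i hi d hd hd1 hdL => by
        have e : d⁻¹ * res (a * b) d = (d⁻¹ * res a d) * res a (d⁻¹ * res b d) := by
          rw [map_mul res, MulAut.mul_apply, map_mul, map_inv]
          group
        rw [e, Subgroup.coe_mul]
        obtain ⟨h1, h2⟩ := hWaut b d hd hd1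
        exact (L i).mul_mem (ha i hi d hd hd1 hdL) (hsmallinv i a _ h1 h2 (hb i hi d hd hd1 hdL))
      inv_mem' := fun {a} ha i hi d hd hd1 hdL => by
        have e : d⁻¹ * res a⁻¹ d = res a⁻¹ ((d⁻¹ * res a d)⁻¹) := by
          simp only [map_inv, map_mul, MulAut.inv_apply, MulEquiv.symm_apply_apply, mul_inv_rev,
            inv_inv]
        rw [e]
        obtain ⟨h1, h2⟩ := hWaut a d hd hd1
        refine hsmallinv i a⁻¹ _ (C.inv_mem h1) (by rw [inv_pow, h2, inv_one]) ?_
        rw [InvMemClass.coe_inv]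
        exact (L i).inv_mem (ha i hi d hd hd1 hdL) }
  have hn : K.Normal := by
    refine ⟨fun b hb a i hi d hd hd1 hdL => ?_⟩
    set e := res a⁻¹ d with he
    have he1 : e ^ q = 1 := by rw [he, ← map_pow, hd1, map_one]
    have heC : e ∈ C := hCa _ d hd
    have heL := hsmallinv _ a⁻¹ d hd hd1 hdL
    obtain ⟨h1, h2⟩ := hWaut b e heC he1
    have h3 := hsmallinv i a _ h1 h2 (hb i hi e heC he1 heL)
    have h4 : res a (e⁻¹ * res b e) = d⁻¹ * res (a * b * a⁻¹) d := by
      simp only [he, map_mul, map_inv, MulAut.mul_apply, MulAut.inv_apply,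
        MulEquiv.apply_symm_apply]
    rw [h4] at h3
    exact h3
  have htK : t ∈ K := fun i hi d _ hd1 hdL =>
    ht i hi (Subgroup.inclusion hDR d) d.2.2 (congrArg Subtype.val hd1) hdL
  refine CharP.le_pCore hn ?_ htK
  rintro ⟨b, hb⟩
  obtain ⟨k, m, hm, hbm⟩ :=
    Nat.exists_eq_pow_mul_and_not_dvd (orderOf_pos b).ne' p (Fact.out : p.Prime).ne_one
  refine ⟨k, Subtype.ext ?_⟩
  show b ^ p ^ k = 1
  set c := b ^ p ^ k with hc
  have hcK : c ∈ K := K.pow_mem hb _
  have hord : (orderOf c).Coprime p := by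
    have hdvd : orderOf c ∣ m := orderOf_dvd_of_pow_eq_one (by
      rw [hc, ← pow_mul, ← hbm, pow_orderOf_eq_one])
    exact ((Nat.Prime.coprime_iff_not_dvd Fact.out).2 hm).symm.coprime_dvd_left hdvd
  have hres : (orderOf (res c)).Coprime p := hord.coprime_dvd_left (orderOf_map_dvd res c)
  have hfixW : ∀ i ≤ n, ∀ d ∈ C, d ^ q = 1 → (d : Ω) ∈ L i → res c d = d := by
    intro i
    induction i with
    | zero =>
      intro _ d _ _ hdL
      rw [hL0, Subgroup.mem_bot] at hdL
      have : d = 1 := Subtype.ext hdL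
      rw [this, map_one]
    | succ i ih =>
      intro hi d hd hd1 hdL
      obtain ⟨h1, h2⟩ := hWaut c d hd hd1
      exact eq_of_fixes_inv_mul hDP hres (ih (by omega) _ h1 h2 (hcK i (by omega) d hd hd1 hdL))
  let σC : MulAut C := ((res c).subgroupMap C).trans
    (MulEquiv.subgroupCongr (Subgroup.characteristic_iff_map_eq.1 hC.characteristic (res c)))
  have σC_apply : ∀ x : C, ((σC x : C) : D) = res c x := fun _ => rfl
  have hσC : σC = 1 := by
    refine eq_one_of_fixes_small (hDP.to_subgroup C) hC.class_two hC.pow_mem_center hq ?_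
      fun x hx => Subtype.ext ?_
    · refine hres.coprime_dvd_left (orderOf_dvd_of_pow_eq_one (MulEquiv.ext fun x => Subtype.ext ?_))
      have key : ∀ j : ℕ, (((σC ^ j) x : C) : D) = (res c ^ j) x := by
        intro j
        induction j with
        | zero => rfl
        | succ j ihj => rw [pow_succ', MulAut.mul_apply, σC_apply, ihj, pow_succ', MulAut.mul_apply]
      rw [key, pow_orderOf_eq_one]
      rfl
    · rw [σC_apply]
      exact hfixW n le_rfl x x.2 (congrArg Subtype.val hx) (hLn x.1.2.2)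
  have hres1 : res c = 1 := hC.aut_eq_one hDP hres fun d hd => by
    have h := σC_apply ⟨d, hd⟩
    rw [hσC] at h
    exact h.symm
  refine Subtype.ext (MulEquiv.ext fun x => ?_)
  have hmem : (x : Ω)⁻¹ * (((c : MulAut R) x : R) : Ω) ∈ D :=
    ⟨R.mul_mem (R.inv_mem x.2) ((c : MulAut R) x).2,
      hgen _ c.2 (by rwa [← Subgroup.orderOf_coe] at hord) x⟩
  refine eq_of_fixes_inv_mul (hS.to_le hR) (by rwa [← Subgroup.orderOf_coe] at hord) ?_
  have h := res_apply c ⟨_, hmem⟩
  rw [hres1] at h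
  exact Subtype.ext h.symm

end CfsgLib.Fusion.Alperin
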