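import Cfsg.Agent.Fusion.Alperin.SmallOrder
import Cfsg.Agent.Fus.Focal
import Mathlib.GroupTheory.Nilpotent

/-!
`S` is normal when the fusion of small elements of a suitable strongly closed subgroup respects a
series of `S`.
-/

set_option autoImplicit false

namespace CfsgLib.Fusion.Alperin

open CfsgLib.Fus Cfsg.FusionSystem

variable {Ω : Type*} [Group Ω] {S : Subgroup Ω} [Finite S] {p : ℕ} [Fact p.Prime]

omit [Finite S] [Fact p.Prime] in
theorem inv_mul_mem_hyperfocal (F : Cfsg.FusionSystem S) {R : Subgroup Ω} (hR : R ≤ S)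
    {a : MulAut R} (ha : a ∈ F.autGroup R) (hord : (orderOf a).Coprime p) (x : R) :
    (x : Ω)⁻¹ * ((a x : R) : Ω) ∈ F.hyperfocalSubgroup p := by
  refine Subgroup.subset_closure ⟨R, ⟨a, ha⟩, x, hR, Subgroup.subset_closure ?_, rfl⟩
  show Nat.Coprime (orderOf (⟨a, ha⟩ : F.autGroup R)) p
  rwa [← Subgroup.orderOf_coe]

omit [Finite S] [Fact p.Prime] in
theorem stronglyClosed_focal (F : Cfsg.FusionSystem S) : F.StronglyClosed F.focalSubgroup := by
  refine ⟨focalSubgroup_le_S F, fun R hR φ hφ x => ?_⟩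
  have h := F.focalSubgroup.mul_mem (hR x.2) (mem_focalSubgroup F hφ x)
  simpa using h

theorem exists_small_exponent :
    ∃ q : ℕ, (p ≠ 2 ∧ q = p) ∨ (p = 2 ∧ q = 4) := by
  by_cases h : p = 2
  · exact ⟨4, Or.inr ⟨h, rfl⟩⟩
  · exact ⟨p, Or.inl ⟨h, rfl⟩⟩

omit [Fact p.Prime] in
theorem card_zpowers_small [Fact p.Prime] {q : ℕ} (hq : (p ≠ 2 ∧ q = p) ∨ (p = 2 ∧ q = 4)) {x : Ω}
    (hx : x ^ q = 1) (hx1 : x ≠ 1) :
    Nat.card (Subgroup.zpowers x) = p ∨ Nat.card (Subgroup.zpowers x) = 4 := by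
  rw [Nat.card_zpowers]
  have hdvd := orderOf_dvd_of_pow_eq_one hx
  have hne : orderOf x ≠ 1 := fun h => hx1 (orderOf_eq_one_iff.1 h)
  rcases hq with ⟨-, rfl⟩ | ⟨hp2, rfl⟩
  · exact Or.inl (((Nat.dvd_prime Fact.out).1 hdvd).resolve_left hne)
  · obtain ⟨j, hj, hjx⟩ := (Nat.dvd_prime_pow Nat.prime_two (m := 2)).1 hdvd
    interval_cases j
    · exact absurd hjx hne
    · exact Or.inl (by rw [hjx, hp2]; rfl)
    · exact Or.inr hjx

/-- `S` is normal when `Aut_S` of each subgroup stabilizes an invariant series on the small elements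
of a strongly closed subgroup containing all commutators of `p'`-automorphisms. -/
theorem isNormal_top_of_small (hS : IsPGroup p S) {F : Cfsg.FusionSystem S} (hF : F.IsSaturated p)
    {H : Subgroup Ω} (hH : F.StronglyClosed H)
    (hgen : ∀ R ≤ S, ∀ a ∈ F.autGroup R, (orderOf a).Coprime p → ∀ x : R,
      (x : Ω)⁻¹ * ((a x : R) : Ω) ∈ H)
    {q : ℕ} (hq : (p ≠ 2 ∧ q = p) ∨ (p = 2 ∧ q = 4))
    (n : ℕ) (L : ℕ → Subgroup Ω) (hL0 : L 0 = ⊥) (hLn : H ≤ L n)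
    (hinv : ∀ R ≤ S, ∀ i, ∀ a ∈ F.autGroup R, ∀ x : R, (x : Ω) ∈ H → (x : Ω) ^ q = 1 →
      (x : Ω) ∈ L i → ((a x : R) : Ω) ∈ L i)
    (hstab : ∀ i < n, ∀ g ∈ S, ∀ x ∈ H, x ^ q = 1 → x ∈ L (i + 1) →
      x⁻¹ * (g * x * g⁻¹) ∈ L i) :
    F.IsNormal S := by
  refine (isNormal_top_iff hS hF).2 fun R hR => ?_
  by_contra hne
  obtain ⟨g, hg, hgR⟩ := exists_normalizing_not_mem hS hR.centric.1 hne
  exact hgR (mem_of_mem_pCore_of_radical hR.centric hR.radical hg fun _ =>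
    mem_pCore_of_small hS hR.centric.1 hH (hgen R hR.centric.1) hq n L hL0 hLn
      (hinv R hR.centric.1) fun i hi x hxH hx hxL => hstab i hi g hg.1 x hxH hx hxL)

/-- The series given by the upper central series of `S` mapped into the ambient group. -/
theorem exists_central_series (hS : IsPGroup p S) :
    ∃ (n : ℕ) (L : ℕ → Subgroup Ω), L 0 = ⊥ ∧ L n = S ∧
      (∀ i, L i = (Subgroup.upperCentralSeries S i).map S.subtype) ∧
      (∀ i, ∀ g ∈ S, ∀ x ∈ L (i + 1), x⁻¹ * (g * x * g⁻¹) ∈ L i) ∧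
      ∀ i, ∀ g ∈ S, ∀ x ∈ L i, g * x * g⁻¹ ∈ L i := by
  have : Group.IsNilpotent S := hS.isNilpotent
  obtain ⟨n, hn⟩ := Group.IsNilpotent.nilpotent' (G := S)
  refine ⟨n, fun i => (Subgroup.upperCentralSeries S i).map S.subtype, by simp, ?_, fun _ => rfl,
    ?_, ?_⟩
  · simp [hn, ← MonoidHom.range_eq_map]
  · rintro i g hg _ ⟨x, hx, rfl⟩
    have h := (Subgroup.mem_upperCentralSeries_succ_iff.1
      ((Subgroup.upperCentralSeries S (i + 1)).inv_mem hx)) ⟨g, hg⟩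
    refine ⟨_, h, ?_⟩
    simp [commutatorElement_def, mul_assoc]
  · rintro i g hg _ ⟨x, hx, rfl⟩
    exact ⟨⟨g, hg⟩ * x * (⟨g, hg⟩ : S)⁻¹,
      Subgroup.Normal.conj_mem inferInstance x hx _, rfl⟩

end CfsgLib.Fusion.Alperin
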